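import Groth.Agent.S3330
import Groth.Agent.S3338
import Groth.Agent.S0981
import Groth.Agent.Flat2B.SmoothGeom
import Groth.Agent.EssDim.K995.CurveBasic
import Groth.Agent.AlgSt.K738.Sep2
import Groth.Agent.GIT.K610.MgObj

/-!
# Uniqueness of smooth limits of curves of genus `≥ 1`
-/

set_option autoImplicit false
set_option backward.isDefEq.respectTransparency false
set_option backward.isDefEq.respectTransparency.types false
universe u
open CategoryTheory CategoryTheory.Limits AlgebraicGeometry Opposite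

namespace K339.SmLim

/-- `O = g_* O` for proper smooth morphisms with geometrically connected fibres. -/
theorem isIso_appTop {S G : Scheme.{u}} (g : G ⟶ S) [IsProper g] [Smooth g]
    [GeometricallyConnected g] : IsIso g.appTop := by
  have : GeometricallyReduced g := Groth.Agent.Flat2B.SmoothGeom.geometricallyReduced_of_smooth g
  refine Groth.Agent.S0981.result g (fun K _ _ a => ⟨?_, ?_⟩) ⊤
  · exact GeometricallyReduced.geometrically_isReduced (f := g) a _ _ (.of_hasPullback _ _)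
  · exact GeometricallyConnected.geometrically_connectedSpace (f := g) a _ _ (.of_hasPullback _ _)

variable {g : ℕ}

theorem isSmoothProperCurve {K : Type u} [Field K] {C : Scheme.{u}} {f : C ⟶ Spec (CommRingCat.of K)}
    (h : ModFun.IsCurveOfGenus g f) : Curve.IsSmoothProperCurve K C f :=
  ⟨h.2.1, h.1, K995.CurveBasic.isIntegral h, K995.CurveBasic.dim_eq_one h⟩

/-- Uniqueness of smooth models of curves of genus `≥ 1` over a discrete valuation ring. -/
theorem exists_iso_frac (R : Type u) [CommRing R] [IsDomain R] [IsDiscreteValuationRing R] (hg : 1 ≤ g)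
    {X₁ X₂ C : Scheme.{u}} {p₁ : X₁ ⟶ Spec (CommRingCat.of R)} {p₂ : X₂ ⟶ Spec (CommRingCat.of R)}
    {f : C ⟶ Spec (CommRingCat.of (FractionRing R))} (h₁ : ModFun.IsCurveOfGenus g p₁)
    (h₂ : ModFun.IsCurveOfGenus g p₂) {g₁ : C ⟶ X₁} {g₂ : C ⟶ X₂}
    (s₁ : IsPullback g₁ f p₁ (Spec.map (CommRingCat.ofHom (algebraMap R (FractionRing R)))))
    (s₂ : IsPullback g₂ f p₂ (Spec.map (CommRingCat.ofHom (algebraMap R (FractionRing R))))) :
    ∃! e : X₁ ≅ X₂, e.hom ≫ p₂ = p₁ ∧ g₁ ≫ e.hom = g₂ := by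
  have hC : ModFun.IsCurveOfGenus g f := K995.GenusField.isCurveOfGenus_of_isPullback s₁ h₁
  have hCs := isSmoothProperCurve hC
  have : IsProper f := hC.2.1
  have : Smooth f := hC.1
  have : GeometricallyIrreducible f := hC.2.2.1
  have : GeometricallyConnected f := K995.CurveBasic.geometricallyConnected f
  have hH0 : IsIso f.appTop := isIso_appTop f
  have hgen : 0 < Models.curveGenus (FractionRing R) C f := by
    have h := K995.CurveBasic.h1_eq hC
    have h' : Models.curveGenus (FractionRing R) C f = g := h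
    rw [h']
    exact hg
  have : IsProper p₁ := h₁.2.1
  have : Smooth p₁ := h₁.1
  have : IsProper p₂ := h₂.2.1
  have : Smooth p₂ := h₂.1
  have hm₁ : Models.IsMinimalModel R X₁ p₁ C f := Groth.Agent.S3338.result R C X₁ f p₁ hCs hH0
    ⟨inferInstance, inferInstance, inferInstance, g₁, s₁⟩
  have hm₂ : Models.IsMinimalModel R X₂ p₂ C f := Groth.Agent.S3338.result R C X₂ f p₂ hCs hH0
    ⟨inferInstance, inferInstance, inferInstance, g₂, s₂⟩
  exact Groth.Agent.S3330.result R C X₁ X₂ f p₁ p₂ hCs hH0 hgen hm₁ hm₂ g₁ s₁ g₂ s₂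

/-- The same with any fraction field. -/
theorem exists_iso (R : Type u) [CommRing R] [IsDomain R] [IsDiscreteValuationRing R]
    (L : Type u) [Field L] [Algebra R L] [IsFractionRing R L] (hg : 1 ≤ g)
    {X₁ X₂ C : Scheme.{u}} {p₁ : X₁ ⟶ Spec (CommRingCat.of R)} {p₂ : X₂ ⟶ Spec (CommRingCat.of R)}
    {f : C ⟶ Spec (CommRingCat.of L)} (h₁ : ModFun.IsCurveOfGenus g p₁)
    (h₂ : ModFun.IsCurveOfGenus g p₂) {g₁ : C ⟶ X₁} {g₂ : C ⟶ X₂}
    (s₁ : IsPullback g₁ f p₁ (Spec.map (CommRingCat.ofHom (algebraMap R L))))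
    (s₂ : IsPullback g₂ f p₂ (Spec.map (CommRingCat.ofHom (algebraMap R L)))) :
    ∃! e : X₁ ≅ X₂, e.hom ≫ p₂ = p₁ ∧ g₁ ≫ e.hom = g₂ := by
  let φ : FractionRing R ≃ₐ[R] L := FractionRing.algEquiv R L
  let ι : Spec (CommRingCat.of L) ≅ Spec (CommRingCat.of (FractionRing R)) :=
    Scheme.Spec.mapIso (RingEquiv.toCommRingCatIso φ.toRingEquiv).op
  have hι : Spec.map (CommRingCat.ofHom (algebraMap R L)) =
      ι.hom ≫ Spec.map (CommRingCat.ofHom (algebraMap R (FractionRing R))) := by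
    change _ = Spec.map _ ≫ Spec.map _
    rw [← Spec.map_comp]
    congr 1
    ext r
    exact (φ.commutes r).symm
  have t₁ : IsPullback g₁ (f ≫ ι.hom) p₁ (Spec.map (CommRingCat.ofHom (algebraMap R (FractionRing R)))) :=
    IsPullback.of_iso s₁ (Iso.refl _) (Iso.refl _) ι (Iso.refl _) (by simp) (by simp) (by simp)
      (by simp [hι])
  have t₂ : IsPullback g₂ (f ≫ ι.hom) p₂ (Spec.map (CommRingCat.ofHom (algebraMap R (FractionRing R)))) :=
    IsPullback.of_iso s₂ (Iso.refl _) (Iso.refl _) ι (Iso.refl _) (by simp) (by simp) (by simp)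
      (by simp [hι])
  exact exists_iso_frac R hg h₁ h₂ t₁ t₂

open K610.Mg K604.DvrClosed

theorem map_eq {S : Scheme.{u}} {T T' : Over S} {C' : Over T'.left} {C : Over T.left}
    {hC' : ModFun.IsCurveOfGenus g C'.hom} {hC : ModFun.IsCurveOfGenus g C.hom}
    (j : T' ⟶ T) (r : obj T' C' hC' ⟶ obj T C hC) (h : (CurvSt.Mgn S g 0).p.IsHomLift j r) :
    (CurvSt.Mgn S g 0).p.map r = j := by
  have h1 := IsHomLift.fac (CurvSt.Mgn S g 0).p j r
  rw [h1]
  exact ((Category.id_comp _).trans (Category.comp_id _)).symm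

/-- **Uniqueness of smooth limits.** -/
theorem uniqLim_mgn (S : Scheme.{u}) (hg : 1 ≤ g) : K738.Sep.UniqLim (CurvSt.Mgn S g 0) := by
  intro R _ _ _ _ L _ _ _ a A₁ A₂ B r₁ r₂ h1 h2
  have e1 : (CurvSt.Mgn S g 0).p.obj A₁ = Over.mk a :=
    IsHomLift.codomain_eq (CurvSt.Mgn S g 0).p (jj R L a) r₁
  have e2 : (CurvSt.Mgn S g 0).p.obj A₂ = Over.mk a :=
    IsHomLift.codomain_eq (CurvSt.Mgn S g 0).p (jj R L a) r₂
  have e3 : (CurvSt.Mgn S g 0).p.obj B =
      Over.mk (Spec.map (CommRingCat.ofHom (algebraMap R L)) ≫ a) :=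
    IsHomLift.domain_eq (CurvSt.Mgn S g 0).p (jj R L a) r₁
  obtain ⟨C₁, hC₁, rfl⟩ := exists_obj A₁ e1
  obtain ⟨C₂, hC₂, rfl⟩ := exists_obj A₂ e2
  obtain ⟨C, hC, rfl⟩ := exists_obj B e3
  have m1 := map_eq (jj R L a) r₁ h1
  have m2 := map_eq (jj R L a) r₂ h2
  have q1 := sq_of_hom r₁
  have q2 := sq_of_hom r₂
  rw [m1] at q1
  rw [m2] at q2
  obtain ⟨e, ⟨he1, he2⟩, -⟩ := exists_iso R L hg (X₁ := C₁.left) (X₂ := C₂.left) (C := C.left)
    (p₁ := C₁.hom) (p₂ := C₂.hom) (f := C.hom) hC₁ hC₂ q1 q2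
  have sq : IsPullback e.hom C₁.hom C₂.hom (𝟙 _) :=
    IsPullback.of_horiz_isIso ⟨by rw [he1]; exact (Category.comp_id _).symm⟩
  refine ⟨homOfSq (z := obj (Over.mk a) C₁ hC₁) (w := obj (Over.mk a) C₂ hC₂) (𝟙 (Over.mk a)) e.hom sq,
    isHomLift_homOfSq (z := obj (Over.mk a) C₁ hC₁) (w := obj (Over.mk a) C₂ hC₂) _ _ _, ?_⟩
  apply ObjectProperty.hom_ext
  refine CurvSt.PtFamObj.hom_ext ?_ he2
  change (CurvSt.Mgn S g 0).p.map r₁ ≫ 𝟙 _ = (CurvSt.Mgn S g 0).p.map r₂
  rw [m1, m2]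
  exact Category.comp_id _

end K339.SmLim
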